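import Groth.Agent.VBCurve.K52.SubDivW
import Groth.Agent.VBCurve.K427.SubVanC

/-!
# S15230, SUB-DIV: divisors of maps between invertible modules on a smooth curve
-/

set_option autoImplicit false
set_option linter.unusedSectionVars false
universe u
open CategoryTheory CategoryTheory.Limits AlgebraicGeometry

namespace K553.Sub

section field

variable {k : Type u} [Field k] [IsAlgClosed k] (C : Over (Spec (CommRingCat.of k)))
  [IsIntegral C.left] [IsProper C.hom] [Smooth C.hom] (hdim : topologicalKrullDim C.left = 1)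

include hdim in
theorem div_nodes : K52.DivCore.Nodes C :=
  K52.DivCore.nodes C hdim fun N hN x c _ => range_twpι C hdim N hN x c

include hdim in
/-- A nonzero map of invertible modules is the inclusion of `M'(-x₁ - ⋯ - xₙ)`. -/
theorem exists_div_gen {M M' : C.left.Modules} (hM : PicF.IsInvertible M) (hM' : PicF.IsInvertible M')
    (φ : M ⟶ M') (hφ : φ ≠ 0) (n : ℕ)
    (hn : Curv2.deg k C.left M' 1 = Curv2.deg k C.left M 1 + n) :
    ∃ x : Fin n → (pt (Spec (CommRingCat.of k)) ⟶ C),
      ∃ e : M ≅ twp M' (pts x), e.hom ≫ twpι M' (pts x) = φ :=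
  K52.DivCore.exists_div_gen hdim (div_nodes C hdim) hM hM' φ hφ n hn

include hdim in
/-- A nonzero map with reduced zeros is the inclusion of `M'(-x₁ - ⋯ - xₙ)` with distinct points. -/
theorem exists_div {M M' : C.left.Modules} (hM : PicF.IsInvertible M) (hM' : PicF.IsInvertible M')
    (φ : M ⟶ M') (hφ : φ ≠ 0) (hred : Red φ) (n : ℕ)
    (hn : Curv2.deg k C.left M' 1 = Curv2.deg k C.left M 1 + n) :
    ∃ x : Fin n → (pt (Spec (CommRingCat.of k)) ⟶ C), Function.Injective x ∧
      (∃ e : M ≅ twp M' (pts x), e.hom ≫ twpι M' (pts x) = φ) ∧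
      ∀ c : pt (Spec (CommRingCat.of k)) ⟶ C, (∃ i, x i = c) ↔
        ¬ Function.Surjective (Groth.Agent.CycB.StalkExact.stalkLin φ (atp c)) :=
  K52.DivCore.exists_div hdim (div_nodes C hdim) hM hM' φ hφ hred n hn

include hdim in
/-- The divisor is determined by the subobject. -/
theorem count_eq_of_iso {M : C.left.Modules} (hM : PicF.IsInvertible M)
    (x y : List (pt (Spec (CommRingCat.of k)) ⟶ C)) (e : twp M x ≅ twp M y) (he : e.hom ≫ twpι M y = twpι M x) :
    x.Perm y :=
  K52.DivCore.count_eq_of_iso hdim (div_nodes C hdim) hM x y e he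

include hdim in
theorem exists_iso_of_perm {M : C.left.Modules} (hM : PicF.IsInvertible M)
    (x y : List (pt (Spec (CommRingCat.of k)) ⟶ C)) (h : x.Perm y) :
    ∃ e : twp M x ≅ twp M y, e.hom ≫ twpι M y = twpι M x :=
  K52.DivCore.exists_iso_of_perm (div_nodes C hdim) hM x y h

end field

end K553.Sub
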