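import Groth.Agent.VBCurve.K52.JacStalk
import Groth.Agent.VBCurve.K553.SubDefs2
import Groth.Agent.VBCurve.K704.InvHom

/-!
# Two short exact sequences with the same middle term (S15230, SUB-DIV)

`K553.Sub.cross_iff`: for `0 → A → E → B → 0` and `0 → L → E → Q → 0` with invertible outer terms on an integral
scheme the composites `L → B` and `A → Q` are surjective at the same points, vanish at the same time and have
reduced zeros at the same time.
-/

set_option autoImplicit false
set_option linter.unusedSectionVars false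
universe u
open CategoryTheory CategoryTheory.Limits AlgebraicGeometry TopologicalSpace

namespace K52.Cross

section alg

variable {R : Type*} [CommRing R] {A E B L Q : Type*} [AddCommGroup A] [AddCommGroup E] [AddCommGroup B]
  [AddCommGroup L] [AddCommGroup Q] [Module R A] [Module R E] [Module R B] [Module R L] [Module R Q]

theorem surjective_iff (a : A →ₗ[R] E) (b : E →ₗ[R] B) (hb : Function.Surjective b)
    (hab : Function.Exact a b) (l : L →ₗ[R] E) :
    Function.Surjective (b.comp l) ↔ LinearMap.range a ⊔ LinearMap.range l = ⊤ := by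
  rw [← LinearMap.range_eq_top, LinearMap.range_comp]
  have h1 : LinearMap.range a = LinearMap.ker b := (LinearMap.exact_iff.mp hab).symm
  constructor
  · intro h
    have h2 := congrArg (Submodule.comap b) h
    rw [Submodule.comap_map_eq, Submodule.comap_top, ← h1, sup_comm] at h2
    exact h2
  · intro h
    have h2 := congrArg (Submodule.map b) h
    rw [Submodule.map_sup, Submodule.map_top, LinearMap.range_eq_top.mpr hb, h1] at h2
    have h3 : Submodule.map b (LinearMap.ker b) = ⊥ := by
      rw [eq_bot_iff, Submodule.map_le_iff_le_comap]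
      exact le_rfl
    rw [h3, bot_sup_eq] at h2
    exact h2

theorem le_range_iff (I : Ideal R) (a : A →ₗ[R] E) (b : E →ₗ[R] B) (hb : Function.Surjective b)
    (hab : Function.Exact a b) (l : L →ₗ[R] E) :
    I • (⊤ : Submodule R B) ≤ LinearMap.range (b.comp l) ↔
      I • (⊤ : Submodule R E) ≤ LinearMap.range a ⊔ LinearMap.range l := by
  have h1 : LinearMap.range a = LinearMap.ker b := (LinearMap.exact_iff.mp hab).symm
  have h2 : I • (⊤ : Submodule R B) = Submodule.map b (I • (⊤ : Submodule R E)) := by
    rw [Submodule.map_smul'', Submodule.map_top, LinearMap.range_eq_top.mpr hb]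
  rw [LinearMap.range_comp, h2, Submodule.map_le_iff_le_comap, Submodule.comap_map_eq, ← h1, sup_comm]

end alg

open Groth.Agent.CycB.StalkExact K553.Sub

variable {X : Scheme.{u}} {A E B L Q : X.Modules}

theorem surjective_stalk_iff (a : A ⟶ E) (b : E ⟶ B) (w : a ≫ b = 0) (hS : (ShortComplex.mk a b w).ShortExact)
    (l : L ⟶ E) (x : X) : Function.Surjective (stalkLin (l ≫ b) x) ↔
      LinearMap.range (stalkLin a x) ⊔ LinearMap.range (stalkLin l x) = ⊤ := by
  obtain ⟨-, h2, h3⟩ := stalkLin_shortExact _ hS x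
  rw [stalkLin_comp]
  exact surjective_iff _ _ h3 h2 _

theorem red_stalk_iff (a : A ⟶ E) (b : E ⟶ B) (w : a ≫ b = 0) (hS : (ShortComplex.mk a b w).ShortExact)
    (l : L ⟶ E) : Red (l ≫ b) ↔ ∀ x : X, IsClosed ({x} : Set X) →
      IsLocalRing.maximalIdeal (X.presheaf.stalk x) • (⊤ : Submodule (X.presheaf.stalk x) (E.presheaf.stalk x)) ≤
        LinearMap.range (stalkLin a x) ⊔ LinearMap.range (stalkLin l x) := by
  unfold Red
  refine forall_congr' fun x => imp_congr_right fun _ => ?_
  obtain ⟨-, h2, h3⟩ := stalkLin_shortExact _ hS x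
  rw [stalkLin_comp]
  exact le_range_iff _ _ _ h3 h2 _

theorem comp_eq_zero [IsIntegral X] (hA : PicF.IsInvertible A) (hL : PicF.IsInvertible L) (hQ : PicF.IsInvertible Q)
    (a : A ⟶ E) (b : E ⟶ B) (w : a ≫ b = 0) (hS : (ShortComplex.mk a b w).ShortExact)
    (l : L ⟶ E) (q : E ⟶ Q) (w' : l ≫ q = 0) [Mono l] (h : l ≫ b = 0) : a ≫ q = 0 := by
  by_contra hne
  have h1 := K704.InvHom.mono_of_ne_zero hA hQ (a ≫ q) hne
  have := hS.mono_f
  let u : L ⟶ A := hS.exact.lift l h
  have hu : u ≫ a = l := hS.exact.lift_f l h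
  have h2 : u = 0 := by
    rw [← cancel_mono (a ≫ q), ← Category.assoc, hu, w', zero_comp]
  rw [h2, zero_comp] at hu
  exact K704.InvHom.ne_zero_of_mono hL l hu.symm

end K52.Cross

namespace K553.Sub

section field

variable {k : Type u} [Field k] [IsAlgClosed k] (C : Over (Spec (CommRingCat.of k)))
  [IsIntegral C.left] [IsProper C.hom] [Smooth C.hom] (hdim : topologicalKrullDim C.left = 1)

/-- Two short exact sequences with the same middle term: the maps `A → Q` and `L → B` have isomorphic cokernels;
here the consequences which are needed. -/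
theorem cross_iff {A E B L Q : C.left.Modules} (hA : PicF.IsInvertible A) (hB : PicF.IsInvertible B)
    (hL : PicF.IsInvertible L) (hQ : PicF.IsInvertible Q)
    (a : A ⟶ E) (b : E ⟶ B) (w : a ≫ b = 0) (hS : (ShortComplex.mk a b w).ShortExact)
    (l : L ⟶ E) (q : E ⟶ Q) (w' : l ≫ q = 0) (hS' : (ShortComplex.mk l q w').ShortExact) :
    (Red (l ≫ b) ↔ Red (a ≫ q)) ∧ (l ≫ b ≠ 0 ↔ a ≫ q ≠ 0) ∧
      ∀ x : C.left, (Function.Surjective (Groth.Agent.CycB.StalkExact.stalkLin (l ≫ b) x) ↔
        Function.Surjective (Groth.Agent.CycB.StalkExact.stalkLin (a ≫ q) x)) := by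
  have m1 : Mono a := hS.mono_f
  have m2 : Mono l := hS'.mono_f
  refine ⟨?_, not_congr ⟨?_, ?_⟩, fun x => ?_⟩
  · rw [K52.Cross.red_stalk_iff a b w hS l, K52.Cross.red_stalk_iff l q w' hS' a]
    refine forall_congr' fun x => imp_congr_right fun _ => ?_
    rw [sup_comm]
  · exact K52.Cross.comp_eq_zero hA hL hQ a b w hS l q w'
  · exact K52.Cross.comp_eq_zero hL hA hB l q w' hS' a b w
  · rw [K52.Cross.surjective_stalk_iff a b w hS l, K52.Cross.surjective_stalk_iff l q w' hS' a, sup_comm]

end field

end K553.Sub
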