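import Groth.Agent.VBCurve.K52.JacStalk
import Groth.Agent.VBCurve.K553.SubDefs2
import Groth.Agent.VBCurve.K703.Basic
import Groth.Agent.VBCurve.K704.InvHom
import Groth.Agent.VBCurve.K707.Base
import Groth.Agent.Curves.K323.CurvePts
import Groth.Agent.Ega2.QCohLocal

/-!
# Divisors of maps between invertible modules on a smooth curve (S15230, SUB-DIV), core

The facts on the twists `twp N x` which are proved elsewhere are collected in the structure `Nodes`.
-/

set_option autoImplicit false
set_option linter.unusedSectionVars false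
universe u
open CategoryTheory CategoryTheory.Limits AlgebraicGeometry TopologicalSpace

namespace K52.DivCore

section alg

variable {R : Type*} [CommRing R] [IsLocalRing R] {M : Type*} [AddCommGroup M] [Module R M]

open IsLocalRing

/-- submodules of a free module of rank one -/
theorem smul_top_le_iff (e : M ≃ₗ[R] R) (I J : Ideal R) :
    I • (⊤ : Submodule R M) ≤ J • (⊤ : Submodule R M) ↔ I ≤ J := by
  have key : ∀ I : Ideal R, Submodule.map (e : M →ₗ[R] R) (I • (⊤ : Submodule R M)) = I := fun I => by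
    rw [Submodule.map_smul'', Submodule.map_top, LinearEquiv.range]
    exact Ideal.mul_top I
  constructor
  · intro h
    have h1 := Submodule.map_mono (f := (e : M →ₗ[R] R)) h
    rw [key, key] at h1
    exact h1
  · exact fun h => Submodule.smul_mono_left h

theorem pow_le_pow_iff [IsNoetherianRing R] [IsDomain R] (hR : maximalIdeal R ≠ ⊥) (a b : ℕ) :
    maximalIdeal R ^ a ≤ maximalIdeal R ^ b ↔ b ≤ a := by
  refine ⟨fun h => ?_, fun h => Ideal.pow_le_pow_right h⟩
  by_contra hlt
  push Not at hlt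
  have h1 : maximalIdeal R ^ a ≤ maximalIdeal R • (maximalIdeal R ^ a : Ideal R) := by
    refine h.trans ((Ideal.pow_le_pow_right hlt).trans ?_)
    rw [pow_succ', Ideal.smul_eq_mul]
  have h2 : maximalIdeal R ^ a = ⊥ :=
    Submodule.eq_bot_of_le_smul_of_le_jacobson_bot _ _ (IsNoetherian.noetherian _) h1
      (IsLocalRing.maximalIdeal_le_jacobson _)
  have h3 : a ≠ 0 := by
    rintro rfl
    rw [pow_zero] at h2
    exact one_ne_zero h2
  exact hR ((pow_eq_zero_iff h3).mp h2)

theorem le_smul_of_ne_top (e : M ≃ₗ[R] R) (N : Submodule R M) (hN : N ≠ ⊤) :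
    N ≤ maximalIdeal R • (⊤ : Submodule R M) := by
  have h1 : Submodule.map (e : M →ₗ[R] R) N ≠ ⊤ := by
    intro h
    apply hN
    have h2 := congrArg (Submodule.comap (e : M →ₗ[R] R)) h
    rw [Submodule.comap_map_eq_of_injective e.injective, Submodule.comap_top] at h2
    exact h2
  have h2 : Submodule.map (e : M →ₗ[R] R) N ≤ maximalIdeal R := le_maximalIdeal h1
  have h3 : Submodule.map (e : M →ₗ[R] R) (maximalIdeal R • (⊤ : Submodule R M)) = maximalIdeal R := by
    rw [Submodule.map_smul'', Submodule.map_top, LinearEquiv.range]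
    exact Ideal.mul_top _
  rw [← h3] at h2
  intro x hx
  obtain ⟨y, hy, hxy⟩ := h2 ⟨x, hx, rfl⟩
  rwa [← e.injective hxy]

theorem smul_top_ne_top (e : M ≃ₗ[R] R) (n : ℕ) :
    maximalIdeal R ^ n • (⊤ : Submodule R M) = ⊤ ↔ n = 0 := by
  constructor
  · intro h
    by_contra hn
    have h1 : (⊤ : Ideal R) • (⊤ : Submodule R M) ≤ maximalIdeal R ^ n • (⊤ : Submodule R M) := by
      rw [h]; exact le_top
    rw [smul_top_le_iff e] at h1
    have h2 := h1.trans (Ideal.pow_le_self hn)
    exact (Ideal.IsPrime.ne_top' (I := maximalIdeal R)) (top_le_iff.mp h2)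
  · rintro rfl
    rw [pow_zero, Ideal.one_eq_top, Submodule.top_smul]

end alg

open Groth.Agent.CycB.StalkExact K553.Sub

variable {k : Type u} [Field k] [IsAlgClosed k] (C : Over (Spec (CommRingCat.of k)))
  [IsIntegral C.left] [IsProper C.hom] [Smooth C.hom]

/-- The facts on the twists `N(-∑ x)` and on the points which are used. -/
structure Nodes : Prop where
  inv : ∀ (N : C.left.Modules), PicF.IsInvertible N → ∀ x : List (pt (Spec (CommRingCat.of k)) ⟶ C),
    PicF.IsInvertible (twp N x)
  deg : ∀ (N : C.left.Modules), PicF.IsInvertible N → ∀ x : List (pt (Spec (CommRingCat.of k)) ⟶ C),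
    Curv2.deg k C.left (twp N x) 1 = Curv2.deg k C.left N 1 - x.length
  mono : ∀ (N : C.left.Modules), PicF.IsInvertible N → ∀ x : List (pt (Spec (CommRingCat.of k)) ⟶ C),
    Mono (twpι N x)
  range : ∀ (N : C.left.Modules), PicF.IsInvertible N → ∀ (x : List (pt (Spec (CommRingCat.of k)) ⟶ C))
    (c : pt (Spec (CommRingCat.of k)) ⟶ C) [DecidableEq (pt (Spec (CommRingCat.of k)) ⟶ C)],
    LinearMap.range (stalkLin (twpι N x) (atp c)) =
      IsLocalRing.maximalIdeal (C.left.presheaf.stalk (atp c)) ^ (x.count c) •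
        (⊤ : Submodule (C.left.presheaf.stalk (atp c)) (N.presheaf.stalk (atp c)))
  pt : ∀ t : C.left, IsClosed ({t} : Set C.left) →
    ∃ x : pt (Spec (CommRingCat.of k)) ⟶ C, atp x = t
  closed : ∀ x : K553.Sub.pt (Spec (CommRingCat.of k)) ⟶ C, IsClosed ({atp x} : Set C.left)

variable {C}

theorem proper : IsProper (C.left ↘ (Spec (CommRingCat.of k))) := inferInstanceAs (IsProper C.hom)

theorem jacobson : JacobsonSpace C.left :=
  LocallyOfFiniteType.jacobsonSpace C.hom

theorem noeth : IsNoetherian C.left := by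
  have := proper (C := C)
  exact K703.Basic.isNoetherian k C.left

theorem nonempty_equiv {X : Scheme.{u}} {M : X.Modules} (hM : PicF.IsInvertible M) (x : X) :
    Nonempty (M.presheaf.stalk x ≃ₗ[X.presheaf.stalk x] X.presheaf.stalk x) := by
  obtain ⟨b⟩ := K707.Base.exists_basis (n := 1) (Groth.Agent.Ega2.QCohLocal.isFinLocFreeOfRank_one_iff.mpr hM) x
  exact ⟨b.equivFun.trans (LinearEquiv.funUnique (Fin 1) _ _)⟩

theorem isDVR (hdim : topologicalKrullDim C.left = 1) (x : C.left) (hx : IsClosed ({x} : Set C.left)) :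
    IsDiscreteValuationRing (C.left.presheaf.stalk x) :=
  Groth.Agent.CurvesB.SmoothCurveFacts.isDiscreteValuationRing_stalk C.hom hdim.le
    (Groth.Agent.Curves.K323.CurvePts.ne_genericPoint C.left hdim x hx)

theorem maximalIdeal_ne_bot (hdim : topologicalKrullDim C.left = 1) (x : C.left) (hx : IsClosed ({x} : Set C.left)) :
    IsLocalRing.maximalIdeal (C.left.presheaf.stalk x) ≠ ⊥ := by
  have := isDVR hdim x hx
  exact IsDiscreteValuationRing.not_a_field _

theorem isNoetherianRing (x : C.left) : IsNoetherianRing (C.left.presheaf.stalk x) := by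
  have := noeth (C := C)
  infer_instance

theorem smul_top_le_iff' (hdim : topologicalKrullDim C.left = 1) {M : C.left.Modules} (hM : PicF.IsInvertible M)
    (x : C.left) (hx : IsClosed ({x} : Set C.left)) (a b : ℕ) :
    IsLocalRing.maximalIdeal (C.left.presheaf.stalk x) ^ a •
        (⊤ : Submodule (C.left.presheaf.stalk x) (M.presheaf.stalk x)) ≤
      IsLocalRing.maximalIdeal (C.left.presheaf.stalk x) ^ b •
        (⊤ : Submodule (C.left.presheaf.stalk x) (M.presheaf.stalk x)) ↔ b ≤ a := by
  obtain ⟨e⟩ := nonempty_equiv hM x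
  have := isDVR hdim x hx
  rw [smul_top_le_iff e, pow_le_pow_iff (maximalIdeal_ne_bot hdim x hx)]

/-- A map `ψ : A ⟶ M'(-∑ l)` which is not surjective at `c` factors over `M'(-c-∑ l)`. -/
theorem exists_step (H : Nodes C) {A M' : C.left.Modules} (hM' : PicF.IsInvertible M')
    (l : List (pt (Spec (CommRingCat.of k)) ⟶ C)) (ψ : A ⟶ twp M' l) (c : pt (Spec (CommRingCat.of k)) ⟶ C)
    (hc : ¬ Function.Surjective (stalkLin ψ (atp c))) :
    ∃ ψ' : A ⟶ twp M' (c :: l), ψ' ≫ twpι M' (c :: l) = ψ ≫ twpι M' l := by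
  classical
  have := jacobson (C := C)
  have := H.mono M' hM' (c :: l)
  refine K52.JacStalk.exists_factor (ψ ≫ twpι M' l) (twpι M' (c :: l)) fun x hx => ?_
  obtain ⟨c', rfl⟩ := H.pt x hx
  rw [H.range M' hM' (c :: l) c', stalkLin_comp, LinearMap.range_comp]
  by_cases hcc : c' = c
  · subst hcc
    rw [List.count_cons_self, pow_succ']
    obtain ⟨e⟩ := nonempty_equiv (H.inv M' hM' l) (atp c')
    have h1 := le_smul_of_ne_top e (LinearMap.range (stalkLin ψ (atp c'))) (fun h => hc (LinearMap.range_eq_top.mp h))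
    refine (Submodule.map_mono h1).trans ?_
    rw [Submodule.map_smul'', Submodule.map_top, H.range M' hM' l c', ← Submodule.smul_assoc]
    rfl
  · rw [List.count_cons_of_ne (Ne.symm hcc), ← H.range M' hM' l c']
    exact LinearMap.map_le_range

/-- Divisors of maps between invertible modules. -/
theorem exists_list (hdim : topologicalKrullDim C.left = 1) (H : Nodes C) {M M' : C.left.Modules}
    (hM : PicF.IsInvertible M) (hM' : PicF.IsInvertible M')
    (φ : M ⟶ M') (hφ : φ ≠ 0) (n : ℕ) (hn : Curv2.deg k C.left M' 1 = Curv2.deg k C.left M 1 + n) :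
    ∃ l : List (pt (Spec (CommRingCat.of k)) ⟶ C), l.length = n ∧
      ∃ e : M ≅ twp M' l, e.hom ≫ twpι M' l = φ := by
  classical
  have := proper (C := C)
  have := jacobson (C := C)
  have key : ∀ j : ℕ, j ≤ n → ∃ l : List (pt (Spec (CommRingCat.of k)) ⟶ C), l.length = j ∧
      ∃ ψ : M ⟶ twp M' l, ψ ≫ twpι M' l = φ := by
    intro j
    induction j with
    | zero =>
      intro _
      have := H.mono M' hM' []
      refine ⟨[], rfl, K52.JacStalk.exists_factor φ (twpι M' []) fun x hx => ?_⟩
      obtain ⟨c, rfl⟩ := H.pt x hx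
      rw [H.range M' hM' [] c, List.count_nil, pow_zero, Ideal.one_eq_top, Submodule.top_smul]
      exact le_top
    | succ j ih =>
      intro hj
      obtain ⟨l, hl, ψ, hψ⟩ := ih (by omega)
      have hψ0 : ψ ≠ 0 := by
        rintro rfl
        rw [zero_comp] at hψ
        exact hφ hψ.symm
      have h1 : ∃ x : C.left, IsClosed ({x} : Set C.left) ∧ ¬ Function.Surjective (stalkLin ψ x) := by
        by_contra hcon
        push Not at hcon
        have e1 : Epi ψ := K52.JacStalk.epi_of_closed ψ hcon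
        have e2 : Mono ψ := K704.InvHom.mono_of_ne_zero hM (H.inv M' hM' l) ψ hψ0
        have e3 : IsIso ψ := isIso_of_mono_of_epi ψ
        have e4 := K703.Basic.deg_congr k (asIso ψ) 1
        rw [H.deg M' hM' l, hn, hl] at e4
        omega
      obtain ⟨x, hx, hxs⟩ := h1
      obtain ⟨c, rfl⟩ := H.pt x hx
      obtain ⟨ψ', hψ'⟩ := exists_step H hM' l ψ c hxs
      exact ⟨c :: l, by rw [List.length_cons, hl], ψ', hψ'.trans hψ⟩
  obtain ⟨l, hl, ψ, hψ⟩ := key n le_rfl
  have hψ0 : ψ ≠ 0 := by
    rintro rfl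
    rw [zero_comp] at hψ
    exact hφ hψ.symm
  have h2 : IsIso ψ := K703.Basic.isIso_of_deg k hdim hM (H.inv M' hM' l) (by
    rw [H.deg M' hM' l, hn, hl]; omega) ψ hψ0
  exact ⟨l, hl, asIso ψ, hψ⟩

theorem exists_pts (l : List (pt (Spec (CommRingCat.of k)) ⟶ C)) (n : ℕ) (hl : l.length = n) :
    ∃ x : Fin n → (pt (Spec (CommRingCat.of k)) ⟶ C), pts x = l := by
  subst hl
  have h : l.length = l.reverse.length := by rw [List.length_reverse]
  refine ⟨fun i => l.reverse.get (i.cast h), ?_⟩
  have h1 : List.ofFn (fun i : Fin l.length => l.reverse.get (i.cast h)) = l.reverse := by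
    rw [List.ofFn_congr h]
    exact List.ofFn_get _
  rw [pts, h1, List.reverse_reverse]

theorem exists_div_gen (hdim : topologicalKrullDim C.left = 1) (H : Nodes C) {M M' : C.left.Modules}
    (hM : PicF.IsInvertible M) (hM' : PicF.IsInvertible M')
    (φ : M ⟶ M') (hφ : φ ≠ 0) (n : ℕ) (hn : Curv2.deg k C.left M' 1 = Curv2.deg k C.left M 1 + n) :
    ∃ x : Fin n → (pt (Spec (CommRingCat.of k)) ⟶ C),
      ∃ e : M ≅ twp M' (pts x), e.hom ≫ twpι M' (pts x) = φ := by
  obtain ⟨l, hl, e, he⟩ := exists_list hdim H hM hM' φ hφ n hn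
  obtain ⟨x, rfl⟩ := exists_pts l n hl
  exact ⟨x, e, he⟩

theorem range_of_iso (H : Nodes C) {M M' : C.left.Modules} (hM' : PicF.IsInvertible M') (φ : M ⟶ M')
    (l : List (pt (Spec (CommRingCat.of k)) ⟶ C)) (e : M ≅ twp M' l) (he : e.hom ≫ twpι M' l = φ)
    (c : pt (Spec (CommRingCat.of k)) ⟶ C) [DecidableEq (pt (Spec (CommRingCat.of k)) ⟶ C)] :
    LinearMap.range (stalkLin φ (atp c)) =
      IsLocalRing.maximalIdeal (C.left.presheaf.stalk (atp c)) ^ (l.count c) •
        (⊤ : Submodule (C.left.presheaf.stalk (atp c)) (M'.presheaf.stalk (atp c))) := by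
  rw [← H.range M' hM' l c, ← he, stalkLin_comp, LinearMap.range_comp,
    LinearMap.range_eq_top.mpr (stalkLin_surjective e.hom (atp c)), Submodule.map_top]

theorem exists_div (hdim : topologicalKrullDim C.left = 1) (H : Nodes C) {M M' : C.left.Modules}
    (hM : PicF.IsInvertible M) (hM' : PicF.IsInvertible M')
    (φ : M ⟶ M') (hφ : φ ≠ 0) (hred : Red φ) (n : ℕ)
    (hn : Curv2.deg k C.left M' 1 = Curv2.deg k C.left M 1 + n) :
    ∃ x : Fin n → (pt (Spec (CommRingCat.of k)) ⟶ C), Function.Injective x ∧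
      (∃ e : M ≅ twp M' (pts x), e.hom ≫ twpι M' (pts x) = φ) ∧
      ∀ c : pt (Spec (CommRingCat.of k)) ⟶ C, (∃ i, x i = c) ↔
        ¬ Function.Surjective (stalkLin φ (atp c)) := by
  classical
  obtain ⟨x, e, he⟩ := exists_div_gen hdim H hM hM' φ hφ n hn
  refine ⟨x, ?_, ⟨e, he⟩, fun c => ?_⟩
  · have h1 : (pts x).Nodup := by
      rw [List.nodup_iff_count_le_one]
      intro c
      have h2 := hred (atp c) (H.closed c)
      rw [range_of_iso H hM' φ (pts x) e he c] at h2
      rw [← smul_top_le_iff' hdim hM' (atp c) (H.closed c), pow_one]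
      exact h2
    rw [pts, List.nodup_reverse, List.nodup_ofFn] at h1
    exact h1
  · rw [← LinearMap.range_eq_top, range_of_iso H hM' φ (pts x) e he c]
    obtain ⟨e'⟩ := nonempty_equiv hM' (atp c)
    rw [smul_top_ne_top e', List.count_eq_zero, not_not, pts, List.mem_reverse, List.mem_ofFn]

theorem count_eq_of_iso (hdim : topologicalKrullDim C.left = 1) (H : Nodes C) {M : C.left.Modules}
    (hM : PicF.IsInvertible M)
    (x y : List (pt (Spec (CommRingCat.of k)) ⟶ C)) (e : twp M x ≅ twp M y) (he : e.hom ≫ twpι M y = twpι M x) :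
    x.Perm y := by
  classical
  rw [List.perm_iff_count]
  intro c
  have h1 := range_of_iso H hM (twpι M x) y e he c
  rw [H.range M hM x c] at h1
  exact le_antisymm ((smul_top_le_iff' hdim hM (atp c) (H.closed c) _ _).mp h1.ge)
    ((smul_top_le_iff' hdim hM (atp c) (H.closed c) _ _).mp h1.le)

theorem exists_iso_of_perm (H : Nodes C) {M : C.left.Modules} (hM : PicF.IsInvertible M)
    (x y : List (pt (Spec (CommRingCat.of k)) ⟶ C)) (h : x.Perm y) :
    ∃ e : twp M x ≅ twp M y, e.hom ≫ twpι M y = twpι M x := by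
  classical
  have := jacobson (C := C)
  have := H.mono M hM x
  have := H.mono M hM y
  refine K52.JacStalk.exists_iso_of_range (twpι M x) (twpι M y) fun t ht => ?_
  obtain ⟨c, rfl⟩ := H.pt t ht
  rw [H.range M hM x c, H.range M hM y c, h.count_eq]

end K52.DivCore
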