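import Groth.Agent.CycB.StalkExact
import Mathlib.Topology.JacobsonSpace

/-!
# Modules on Jacobson schemes are tested on stalks at closed points

`X` a scheme whose space is Jacobson (e.g. locally of finite type over a field).
* `section_eq_zero`: a section with zero germs at the closed points is zero;
* `hom_eq_zero`: a morphism which is zero on the stalks at the closed points is zero;
* `epi_of_closed`: a morphism surjective on the stalks at the closed points is an epimorphism;
* `exists_factor`, `exists_iso_of_range`: subobjects are determined by the images on the stalks at the closed points.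
-/

set_option autoImplicit false
universe u
open CategoryTheory CategoryTheory.Limits AlgebraicGeometry TopologicalSpace

namespace K52.JacStalk

open Groth.Agent.CycB.StalkExact

variable {X : Scheme.{u}}

theorem section_ext (M : X.Modules) (U : X.Opens) (s t : Γ(M, U))
    (h : ∀ (x : X) (hx : x ∈ U), M.presheaf.germ U x hx s = M.presheaf.germ U x hx t) : s = t :=
  TopCat.Presheaf.section_ext (X := X.carrier) (⟨M.presheaf, M.isSheaf⟩ : TopCat.Sheaf Ab X) U s t h

/-- A section all of whose germs at closed points vanish is zero. -/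
theorem section_eq_zero [JacobsonSpace X] (M : X.Modules) (U : X.Opens) (s : Γ(M, U))
    (h : ∀ (x : X) (hx : x ∈ U), IsClosed ({x} : Set X) → M.presheaf.germ U x hx s = 0) : s = 0 := by
  refine section_ext M U s 0 fun x hx => ?_
  rw [map_zero]
  by_contra hne
  let V : Set X := {y | ∃ hy : y ∈ U, M.presheaf.germ U y hy s = 0}
  have hV : IsOpen V := by
    rw [isOpen_iff_forall_mem_open]
    rintro y ⟨hy, hy0⟩
    obtain ⟨W, hyW, iU, _, hW⟩ := M.presheaf.germ_eq y hy hy s 0 (hy0.trans (map_zero _).symm)
    refine ⟨W, fun z hz => ⟨iU.le hz, ?_⟩, W.2, hyW⟩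
    have h1 : M.presheaf.germ U z (iU.le hz) s = M.presheaf.germ W z hz (M.presheaf.map iU.op s) := by
      rw [TopCat.Presheaf.germ_res_apply]
    rw [h1, hW, map_zero, map_zero]
  have hZ : IsLocallyClosed ((U : Set X) ∩ Vᶜ) := U.2.isLocallyClosed.inter hV.isClosed_compl.isLocallyClosed
  have hxZ : x ∈ (U : Set X) ∩ Vᶜ := ⟨hx, fun ⟨_, h0⟩ => hne h0⟩
  obtain ⟨y, ⟨hyU, hyV⟩, hyc⟩ := nonempty_inter_closedPoints ⟨x, hxZ⟩ hZ
  exact hyV ⟨hyU, h y hyU hyc⟩

/-- A morphism which vanishes on the stalks at closed points is zero. -/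
theorem hom_eq_zero [JacobsonSpace X] {M N : X.Modules} (f : M ⟶ N)
    (h : ∀ x : X, IsClosed ({x} : Set X) → stalkLin f x = 0) : f = 0 := by
  apply Scheme.Modules.hom_ext
  intro U
  ext s
  refine section_eq_zero N U _ fun x hx hc => ?_
  rw [← stalkLin_germ, h x hc]
  rfl

/-- A module with zero stalks at closed points is zero. -/
theorem epi_of_closed [JacobsonSpace X] {M N : X.Modules} (f : M ⟶ N)
    (h : ∀ x : X, IsClosed ({x} : Set X) → Function.Surjective (stalkLin f x)) : Epi f := by
  refine Preadditive.epi_of_cancel_zero f fun {P} g hg => ?_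
  refine hom_eq_zero g fun x hx => ?_
  ext t
  obtain ⟨s, rfl⟩ := h x hx t
  have := LinearMap.congr_fun (stalkLin_comp f g x) s
  rw [hg] at this
  refine (LinearMap.comp_apply (stalkLin g x) (stalkLin f x) s).symm.trans (this.symm.trans ?_)
  have h0 : stalkLin (0 : M ⟶ P) x = 0 := by
    ext m
    change ((stalkFun x).map (0 : M ⟶ P)).hom m = 0
    rw [(stalkFun x).map_zero]
    rfl
  rw [h0]
  rfl

theorem stalkLin_zero (M N : X.Modules) (x : X) : stalkLin (0 : M ⟶ N) x = 0 := by
  ext m
  change ((stalkFun x).map (0 : M ⟶ N)).hom m = 0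
  rw [(stalkFun x).map_zero]
  rfl

/-- A morphism factors through a subobject if it does so on the stalks at the closed points. -/
theorem exists_factor [JacobsonSpace X] {A B M : X.Modules} (α : A ⟶ M) (β : B ⟶ M) [Mono β]
    (h : ∀ x : X, IsClosed ({x} : Set X) → LinearMap.range (stalkLin α x) ≤ LinearMap.range (stalkLin β x)) :
    ∃ e : A ⟶ B, e ≫ β = α := by
  have hβ : (ShortComplex.mk β (cokernel.π β) (cokernel.condition β)).Exact :=
    ShortComplex.exact_cokernel β
  have h0 : α ≫ cokernel.π β = 0 := by
    refine hom_eq_zero _ fun x hx => ?_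
    ext t
    rw [stalkLin_comp]
    obtain ⟨s, hs⟩ := h x hx ⟨t, rfl⟩
    change stalkLin (cokernel.π β) x (stalkLin α x t) = 0
    rw [← hs]
    exact ((stalkLin_exact _ hβ x) _).mpr ⟨s, rfl⟩
  exact ⟨hβ.lift α h0, hβ.lift_f α h0⟩

/-- Two subobjects with the same images on the stalks at the closed points are equal. -/
theorem exists_iso_of_range [JacobsonSpace X] {A B M : X.Modules} (α : A ⟶ M) (β : B ⟶ M) [Mono α] [Mono β]
    (h : ∀ x : X, IsClosed ({x} : Set X) → LinearMap.range (stalkLin α x) = LinearMap.range (stalkLin β x)) :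
    ∃ e : A ≅ B, e.hom ≫ β = α := by
  obtain ⟨e, he⟩ := exists_factor α β fun x hx => (h x hx).le
  obtain ⟨e', he'⟩ := exists_factor β α fun x hx => (h x hx).ge
  refine ⟨⟨e, e', ?_, ?_⟩, he⟩
  · rw [← cancel_mono α, Category.assoc, he', he, Category.id_comp]
  · rw [← cancel_mono β, Category.assoc, he, he', Category.id_comp]

end K52.JacStalk
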