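import Groth.Agent.VBCurve.K553.SubDefs2

/-!
# Tensor products and composition of the twists `tw N l y` (S15230, SUB-DIV)

* `K553.Sub.nonempty_twp_tensor`: `M(-∑ x) ⊗ P = (M ⊗ P)(-∑ x)`;
* `K553.Sub.nonempty_twp_append`: `N(-∑ (x ++ y)) = N(-∑ y)(-∑ x)`; `K52.TwTens.exists_twp_append`: compatible with
  the maps to `N`.
-/

set_option autoImplicit false
set_option linter.unusedSectionVars false
universe u
open CategoryTheory CategoryTheory.Limits AlgebraicGeometry TopologicalSpace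

namespace K52.TwTens

open K553.Sub
open scoped Groth.Agent.Dcoh.MonCat
open MonoidalCategory

variable {S : Scheme.{u}} {C : Over S}

theorem nonempty_tw_tensor {T : Over S} (M : C.left.Modules) (y : T ⟶ C) (P : T.left.Modules) (M' : C.left.Modules)
    (e : CohB1.tensorMod ((Scheme.Modules.pullback y.left).obj M) P ≅ (Scheme.Modules.pullback y.left).obj M')
    (l : List (T ⟶ C)) : Nonempty (CohB1.tensorMod (tw M l y) P ≅ tw M' l y) := by
  induction l with
  | nil => exact ⟨e⟩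
  | cons z l ih =>
    obtain ⟨f⟩ := ih
    exact ⟨(show (D z y ⊗ tw M l y) ⊗ P ≅ D z y ⊗ tw M' l y from
      α_ (D z y) (tw M l y) P ≪≫ whiskerLeftIso (D z y) f)⟩

theorem whisker_unitor {V : Type*} [Category V] [MonoidalCategory V] {D A B : V} (i : D ⟶ 𝟙_ V) (f : A ⟶ B) :
    (D ◁ f) ≫ (i ▷ B ≫ (λ_ B).hom) = (i ▷ A ≫ (λ_ A).hom) ≫ f := by
  rw [← Category.assoc, whisker_exchange, Category.assoc, leftUnitor_naturality, Category.assoc]

theorem comp_aux {V : Type*} [Category V] {A B A' B' F G H : V} (g : A ⟶ B) (p : B ⟶ B') (i : B' ⟶ F)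
    (p' : A ⟶ A') (f : A' ⟶ B') (i' : A' ⟶ G) (j : G ⟶ H) (r : H ⟶ F) (h1 : g ≫ p = p' ≫ f)
    (h2 : f ≫ i = i' ≫ j ≫ r) : g ≫ p ≫ i = (p' ≫ i') ≫ j ≫ r := by
  rw [← Category.assoc, h1, Category.assoc, h2, Category.assoc]

theorem comp_aux2 {V : Type*} [Category V] {A B B' F G H : V} (f : A ⟶ B) (p : B ⟶ B') (q : B' ⟶ F)
    (i' : A ⟶ G) (j : G ⟶ H) (r : H ⟶ B') (h : f ≫ p = i' ≫ j ≫ r) : f ≫ p ≫ q = (i' ≫ j) ≫ r ≫ q := by
  rw [← Category.assoc, h]
  simp only [Category.assoc]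

/-- `tw N (l ++ l') y` as an iterated twist. -/
theorem exists_tw_append {T : Over S} (N : C.left.Modules) (y : T ⟶ C) (l l' : List (T ⟶ C)) (N' : C.left.Modules)
    (e : (Scheme.Modules.pullback y.left).obj N' ≅ tw N l' y) :
    ∃ f : tw N' l y ≅ tw N (l ++ l') y, f.hom ≫ twι N (l ++ l') y = twι N' l y ≫ e.hom ≫ twι N l' y := by
  induction l with
  | nil => exact ⟨e, (Category.id_comp (e.hom ≫ twι N l' y)).symm⟩
  | cons z l ih =>
    obtain ⟨f, hf⟩ := ih
    let g : D z y ⊗ tw N' l y ≅ D z y ⊗ tw N (l ++ l') y := whiskerLeftIso (D z y) f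
    refine ⟨g, ?_⟩
    have h1 : g.hom ≫ (twπ N z (l ++ l') y : D z y ⊗ tw N (l ++ l') y ⟶ tw N (l ++ l') y) =
        (twπ N' z l y : D z y ⊗ tw N' l y ⟶ tw N' l y) ≫ f.hom :=
      whisker_unitor (Dι z y : D z y ⟶ 𝟙_ T.left.Modules) f.hom
    exact comp_aux g.hom (twπ N z (l ++ l') y) (twι N (l ++ l') y) (twπ N' z l y) f.hom (twι N' l y) e.hom
      (twι N l' y) h1 hf

theorem exists_twp_append (M : C.left.Modules) (x y : List (pt S ⟶ C)) :
    ∃ f : twp (twp M y) x ≅ twp M (x ++ y), f.hom ≫ twpι M (x ++ y) = twpι (twp M y) x ≫ twpι M y := by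
  obtain ⟨f, hf⟩ := exists_tw_append M (𝟙 C) (x.map cst) (y.map cst) (twp M y)
    ((Scheme.Modules.pullbackId C.left).app (twp M y))
  have h2 : ∀ (l : List (C ⟶ C)) (hl : l = x.map cst ++ y.map cst),
      ∃ f : twp (twp M y) x ≅ tw M l (𝟙 C), f.hom ≫ twι M l (𝟙 C) ≫ (Scheme.Modules.pullbackId C.left).hom.app M =
        twpι (twp M y) x ≫ twpι M y := by
    rintro l rfl
    exact ⟨f, comp_aux2 f.hom _ _ (twι (twp M y) (x.map cst) (𝟙 C))
      ((Scheme.Modules.pullbackId C.left).hom.app (twp M y)) (twι M (y.map cst) (𝟙 C)) hf⟩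
  exact h2 _ List.map_append

end K52.TwTens

namespace K553.Sub

section field

variable {k : Type u} [Field k] [IsAlgClosed k] (C : Over (Spec (CommRingCat.of k)))
  [IsIntegral C.left] [IsProper C.hom] [Smooth C.hom] (hdim : topologicalKrullDim C.left = 1)

/-- `M(-∑ x) ⊗ P = (M ⊗ P)(-∑ x)` -/
theorem nonempty_twp_tensor (M P : C.left.Modules) (x : List (pt (Spec (CommRingCat.of k)) ⟶ C)) :
    Nonempty (CohB1.tensorMod (twp M x) P ≅ twp (CohB1.tensorMod M P) x) := by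
  open scoped Groth.Agent.Dcoh.MonCat in
  open MonoidalCategory in
  exact K52.TwTens.nonempty_tw_tensor M (𝟙 C) P (CohB1.tensorMod M P)
    ((show (Scheme.Modules.pullback (𝟙 C.left)).obj M ⊗ P ≅ M ⊗ P from
      whiskerRightIso ((Scheme.Modules.pullbackId C.left).app M) P) ≪≫
      ((Scheme.Modules.pullbackId C.left).app (CohB1.tensorMod M P)).symm) (x.map cst)

/-- `N(-∑ (x ++ y)) = N(-∑ y)(-∑ x)` -/
theorem nonempty_twp_append (M : C.left.Modules) (x y : List (pt (Spec (CommRingCat.of k)) ⟶ C)) :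
    Nonempty (twp (twp M y) x ≅ twp M (x ++ y)) := by
  obtain ⟨f, -⟩ := K52.TwTens.exists_twp_append M x y
  exact ⟨f⟩

end field

end K553.Sub
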