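import Groth.Agent.VBCurve.K52.Cross
import Groth.Agent.VBCurve.K52.DivCore
import Groth.Agent.VBCurve.K52.TwTens
import Groth.Agent.VBCurve.K569.SubInv
import Groth.Agent.VBCurve.K226.Pow

/-!
# S15230, SUB-DIV: the nodes used, modulo `range_twpι`
-/

set_option autoImplicit false
set_option linter.unusedSectionVars false
universe u
open CategoryTheory CategoryTheory.Limits AlgebraicGeometry TopologicalSpace

namespace K52.DivCore

open K553.Sub

variable {k : Type u} [Field k] [IsAlgClosed k] (C : Over (Spec (CommRingCat.of k)))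
  [IsIntegral C.left] [IsProper C.hom] [Smooth C.hom] (hdim : topologicalKrullDim C.left = 1)

include hdim in
theorem nodes (hr : ∀ (N : C.left.Modules), PicF.IsInvertible N → ∀ (x : List (pt (Spec (CommRingCat.of k)) ⟶ C))
    (c : pt (Spec (CommRingCat.of k)) ⟶ C) [DecidableEq (pt (Spec (CommRingCat.of k)) ⟶ C)],
    Mono (twpι N x) ∧
    LinearMap.range (Groth.Agent.CycB.StalkExact.stalkLin (twpι N x) (atp c)) =
      IsLocalRing.maximalIdeal (C.left.presheaf.stalk (atp c)) ^ (x.count c) •
        (⊤ : Submodule (C.left.presheaf.stalk (atp c)) (N.presheaf.stalk (atp c)))) : Nodes C where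
  inv N hN x := isInvertible_tw C hdim N hN _ _
  deg N hN x := deg_twp C hdim N hN x
  mono N hN x := by
    classical
    have h1 : ∃ t : C.left, IsClosed ({t} : Set C.left) := by
      have := proper (C := C)
      obtain ⟨t, ht⟩ := Groth.Agent.Curves.K323.CurvePts.exists_closed_mem k C.left ⊤ Set.univ_nonempty
      exact ⟨t, ht.2⟩
    obtain ⟨t, ht⟩ := h1
    obtain ⟨c, hc, -⟩ := exists_pt t ht
    exact (hr N hN x c).1
  range N hN x c _ := (hr N hN x c).2
  pt t ht := by
    obtain ⟨c, hc, -⟩ := exists_pt t ht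
    exact ⟨c, hc⟩
  closed x := isClosed_atp x

end K52.DivCore
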